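/-
Generated orbit certificate: stabiliser generators, one tree per orbit, linking words.
-/
import Cfsg.Agent.Lib.Golay.StabCert

set_option autoImplicit false
set_option maxRecDepth 1000000

namespace Cfsg.Agent.Lib.Golay.Orbits.Duad

open Cfsg.Agent.Lib.Orbit

/-- The base code. -/
def base : ℕ := 3

def gens : List (List ℕ) :=
  [[0, 1, 14, 22, 18, 6, 23, 7, 4, 19, 2, 9, 15, 16, 21, 11, 5, 17, 3, 12, 10, 20, 8, 13],
   [1, 0, 6, 19, 4, 3, 20, 10, 2, 16, 22, 13, 15, 17, 14, 7, 23, 18, 5, 21, 8, 11, 9, 12],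
   [0, 1, 19, 7, 8, 23, 5, 18, 11, 22, 20, 13, 10, 16, 6, 12, 15, 21, 14, 9, 17, 4, 3, 2]]

def allGens : List (List ℕ) :=
  [[1, 2, 3, 4, 5, 6, 7, 8, 9, 10, 11, 12, 13, 14, 15, 16, 17, 18, 19, 20, 21, 22, 0, 23],
   [23, 22, 11, 15, 17, 9, 19, 13, 20, 5, 16, 2, 21, 7, 18, 3, 10, 4, 14, 6, 8, 12, 1, 0],
   [0, 18, 6, 3, 2, 21, 1, 5, 16, 12, 7, 19, 8, 9, 17, 15, 13, 11, 4, 22, 10, 20, 14, 23]]

/-- The root of orbit 0. -/
def root0 : ℕ := 3

/-- The tree of orbit 0. -/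
def tree0 : OrbTree (ℕ) :=
  List.flatten []

/-- The root of orbit 1. -/
def root1 : ℕ := 5

def tree1_0 : OrbTree (ℕ) :=
  [(0, 0, 16385),
   (0, 0, 2097153),
   (0, 1, 2050),
   (0, 0, 514),
   (0, 1, 65537),
   (2, 1, 8193),
   (2, 2, 17),
   (0, 0, 262145),
   (1, 2, 257),
   (3, 1, 16386),
   (1, 2, 65),
   (0, 0, 8388609),
   (0, 1, 4098),
   (2, 1, 1048578),
   (0, 0, 1026),
   (1, 2, 131074),
   (2, 2, 33),
   (0, 1, 10),
   (4, 1, 66),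
   (0, 0, 8388610),
   (0, 0, 8194),
   (1, 2, 6),
   (0, 2, 524290),
   (3, 1, 1048577),
   (0, 0, 1025),
   (0, 1, 4194306),
   (2, 1, 258),
   (1, 2, 131073),
   (0, 1, 262146),
   (3, 2, 34),
   (0, 1, 9),
   (0, 2, 129),
   (4, 2, 524289),
   (0, 0, 4097),
   (0, 0, 32769),
   (0, 1, 130),
   (2, 1, 32770),
   (2, 1, 2097154),
   (0, 1, 2049),
   (1, 2, 18),
   (2, 2, 513),
   (0, 1, 65538),
   (1, 2, 4194305)]

/-- The tree of orbit 1. -/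
def tree1 : OrbTree (ℕ) :=
  List.flatten [tree1_0]

/-- The root of orbit 2. -/
def root2 : ℕ := 12

def tree2_0 : OrbTree (ℕ) :=
  [(0, 0, 4210688),
   (0, 0, 2097408),
   (0, 0, 1048592),
   (0, 1, 272),
   (0, 1, 20),
   (0, 0, 278528),
   (1, 1, 80),
   (1, 2, 524544),
   (3, 2, 131328),
   (0, 1, 262148),
   (0, 0, 16392),
   (1, 2, 540672),
   (4, 1, 2052),
   (0, 1, 8256),
   (0, 0, 8454144),
   (0, 0, 8224),
   (3, 2, 532480),
   (0, 1, 2228224),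
   (0, 1, 264192),
   (0, 2, 24576),
   (2, 2, 2097168),
   (2, 2, 66048),
   (0, 0, 524320),
   (0, 0, 4160),
   (5, 2, 2064),
   (0, 1, 8208),
   (0, 0, 327680),
   (0, 2, 49152),
   (2, 2, 65792),
   (0, 1, 8388612),
   (3, 2, 8448),
   (0, 0, 65552),
   (1, 1, 131076),
   (0, 0, 147456),
   (0, 2, 2097216),
   (2, 1, 262208),
   (0, 1, 1048608),
   (6, 1, 16896),
   (0, 0, 2621440),
   (0, 0, 1052672),
   (0, 1, 33024),
   (0, 2, 6144),
   (2, 2, 132096),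
   (2, 1, 2099200),
   (1, 2, 528),
   (0, 0, 786432),
   (0, 0, 4104),
   (4, 1, 81920),
   (0, 0, 2097184),
   (0, 0, 1048640),
   (0, 0, 8389632),
   (1, 1, 1048832),
   (1, 2, 131104),
   (2, 1, 2056),
   (0, 0, 4194816),
   (2, 2, 8388624),
   (0, 1, 4112),
   (0, 1, 32784),
   (2, 2, 260),
   (3, 1, 8404992),
   (0, 0, 2105344),
   (0, 0, 1114112),
   (0, 0, 1056),
   (2, 1, 133120),
   (2, 1, 20480),
   (0, 0, 2129920),
   (0, 0, 1050624),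
   (2, 2, 1088),
   (2, 2, 68),
   (2, 2, 32832),
   (0, 0, 8390656),
   (1, 1, 1048704),
   (0, 1, 1280),
   (2, 2, 4128),
   (3, 2, 4194368),
   (0, 0, 8388864),
   (0, 1, 4100),
   (2, 1, 1049088),
   (0, 0, 525312),
   (1, 2, 4325376),
   (0, 2, 2097160),
   (3, 2, 40),
   (0, 2, 8388736),
   (4, 2, 72),
   (0, 0, 12582912),
   (0, 1, 4608),
   (0, 0, 557056),
   (0, 1, 2097280),
   (0, 1, 3072),
   (3, 1, 98304),
   (1, 2, 4195328),
   (3, 1, 1572864),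
   (0, 0, 5120),
   (0, 0, 32772),
   (0, 0, 18432),
   (2, 1, 4227072),
   (2, 2, 131584),
   (0, 2, 6291456),
   (0, 2, 24),
   (4, 2, 160),
   (0, 0, 192),
   (0, 2, 262176),
   (2, 1, 1032),
   (0, 0, 4194308),
   (0, 1, 576),
   (2, 1, 4718592),
   (0, 0, 4352),
   (3, 2, 8650752),
   (4, 1, 524352),
   (0, 0, 8392704),
   (0, 0, 40960),
   (0, 0, 67584),
   (0, 1, 8396800),
   (2, 1, 131200),
   (0, 2, 2359296),
   (0, 2, 16400),
   (3, 2, 69632),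
   (0, 0, 32800),
   (0, 0, 2112),
   (0, 1, 1056768),
   (2, 1, 136),
   (0, 2, 262272),
   (5, 1, 36864),
   (0, 0, 34816),
   (0, 0, 2560),
   (0, 0, 524800),
   (2, 1, 8320),
   (1, 2, 12288),
   (0, 1, 163840),
   (4, 2, 1028),
   (0, 0, 16388),
   (0, 0, 2113536),
   (1, 1, 16448),
   (0, 0, 10485760),
   (5, 1, 3145728),
   (0, 0, 1049600),
   (0, 1, 4194560),
   (0, 1, 516),
   (0, 1, 65600),
   (0, 1, 9437184),
   (4, 2, 1179648),
   (0, 1, 262400),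
   (0, 1, 36),
   (4, 1, 2304),
   (0, 1, 8196),
   (0, 1, 131136),
   (0, 0, 8519680),
   (2, 2, 589824),
   (2, 2, 10240),
   (0, 1, 139264)]

def tree2_1 : OrbTree (ℕ) :=
  [(0, 2, 2162688),
   (2, 2, 73728),
   (3, 2, 131088),
   (0, 0, 393216),
   (0, 0, 131080),
   (2, 1, 262160),
   (0, 0, 262152),
   (0, 0, 4194312),
   (1, 2, 16512),
   (2, 1, 48),
   (1, 2, 16640),
   (4, 2, 544),
   (0, 1, 65544),
   (0, 0, 4194336),
   (0, 1, 520),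
   (2, 1, 8912896),
   (0, 1, 2101248),
   (0, 0, 1081344),
   (1, 2, 1040),
   (6, 2, 524416),
   (0, 0, 4224),
   (0, 0, 32896),
   (0, 0, 2176),
   (0, 1, 9216),
   (1, 2, 270336),
   (2, 1, 1152),
   (0, 0, 132),
   (1, 2, 1310720),
   (0, 1, 288),
   (3, 2, 266240),
   (0, 0, 32776),
   (3, 1, 33792),
   (0, 1, 4194432),
   (0, 0, 384),
   (0, 0, 144),
   (2, 1, 1536),
   (0, 0, 524292),
   (1, 2, 5242880),
   (4, 2, 263168),
   (0, 2, 1064960),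
   (3, 1, 2098176),
   (0, 0, 1048580),
   (0, 0, 17408),
   (0, 0, 2097156),
   (2, 1, 320),
   (0, 2, 2080),
   (2, 2, 655360),
   (0, 0, 135168),
   (0, 1, 294912),
   (2, 2, 2097664),
   (0, 2, 4194320),
   (4, 1, 4196352),
   (0, 0, 768),
   (0, 0, 524304),
   (1, 1, 65540),
   (0, 0, 16416),
   (3, 1, 8704),
   (0, 1, 196608),
   (1, 2, 4259840),
   (0, 1, 8389120),
   (3, 2, 8200),
   (0, 2, 65664),
   (4, 2, 262656),
   (0, 0, 524296),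
   (0, 0, 4198400),
   (0, 1, 33280),
   (0, 0, 526336),
   (3, 2, 640),
   (0, 1, 66560),
   (1, 2, 4456448),
   (0, 0, 264),
   (4, 1, 65568),
   (0, 0, 96),
   (0, 0, 8388672),
   (1, 1, 1048584),
   (1, 2, 8388640),
   (2, 1, 8388616),
   (0, 0, 4202496),
   (1, 1, 528384),
   (2, 2, 8421376)]

/-- The tree of orbit 2. -/
def tree2 : OrbTree (ℕ) :=
  List.flatten [tree2_0, tree2_1]

/-- All orbits. -/
def orbits : List (ℕ × OrbTree (ℕ)) :=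
  [(root0, tree0), (root1, tree1), (root2, tree2)]

def transLinks : List (ℕ × ℕ × List ℕ) :=
  [(0, 2, [0, 0]),
   (0, 1, [2, 2, 2])]

def maxWit : List (List ℕ × List (ℕ × ℕ × List ℕ)) :=
  [([0, 2, 18, 3, 1, 10, 4, 20, 9, 16, 21, 14, 13, 8, 19, 15, 12, 22, 6, 17, 5, 7, 11, 23], [(0, 1, [3]), (1, 2, [0, 2, 2, 1, 3])]),
   ([2, 3, 4, 5, 6, 7, 8, 9, 10, 11, 12, 13, 14, 15, 16, 17, 18, 19, 20, 21, 22, 0, 1, 23], [(0, 2, [3]), (2, 1, [0, 0, 3, 0])])]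

end Cfsg.Agent.Lib.Golay.Orbits.Duad
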